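/-
Counting unipotent elements through independent isotropic tuples of fixed vectors.
-/
import Mathlib

set_option autoImplicit false
set_option linter.unusedSectionVars false
set_option linter.style.haveILetI false

namespace CfsgLib.UnipotentCount

open Submodule

variable {F : Type*} [Field F] [Finite F] {V : Type*} [AddCommGroup V] [Module F V] [Finite V]

/-- The weight of a tuple of length `k` for a field with `q` elements. -/
noncomputable def wt (q : ℕ) (k : ℕ) : ℚ :=
  (-1) ^ k / ∏ i ∈ Finset.range k, ((q : ℚ) ^ (i + 1) - 1)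

theorem q_pow_ne {q : ℕ} (hq : 1 < q) {j : ℕ} (hj : j ≠ 0) : (q : ℚ) ^ j - 1 ≠ 0 := by
  have h : (1 : ℚ) < (q : ℚ) ^ j := one_lt_pow₀ (by exact_mod_cast hq) hj
  linarith

theorem wt_succ {q : ℕ} (hq : 1 < q) (k : ℕ) :
    wt q (k + 1) * ((q : ℚ) ^ (k + 1) - 1) = - wt q k := by
  rw [wt, wt, Finset.prod_range_succ, pow_succ]
  have h1 : ∏ i ∈ Finset.range k, ((q : ℚ) ^ (i + 1) - 1) ≠ 0 :=
    Finset.prod_ne_zero_iff.2 fun i _ => q_pow_ne hq (by omega)
  have h2 := q_pow_ne hq (j := k + 1) (by omega)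
  field_simp

/-- An independent tuple in `K` with totally isotropic span. -/
def IsTup (B : V →ₗ[F] V →ₗ[F] F) (K : Submodule F V) {k : ℕ} (x : Fin k → V) : Prop :=
  LinearIndependent F x ∧ (∀ i, x i ∈ K) ∧ ∀ i j, B (x i) (x j) = 0

/-- The number of such tuples. -/
noncomputable def tupCount (B : V →ₗ[F] V →ₗ[F] F) (K : Submodule F V) (k : ℕ) : ℕ :=
  Nat.card {x : Fin k → V // IsTup B K x}

theorem tupCount_zero (B : V →ₗ[F] V →ₗ[F] F) (K : Submodule F V) : tupCount B K 0 = 1 :=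
  Nat.card_eq_one_iff_unique.2 ⟨⟨fun a b => Subtype.ext (Subsingleton.elim _ _)⟩,
    ⟨⟨Fin.elim0, linearIndependent_empty_type, fun i => i.elim0, fun i => i.elim0⟩⟩⟩

theorem iso_of_span {B : V →ₗ[F] V →ₗ[F] F} {s t : Set V}
    (h : ∀ a ∈ s, ∀ b ∈ s, B a b = 0) (hts : t ⊆ Submodule.span F s) :
    ∀ a ∈ t, ∀ b ∈ t, B a b = 0 := by
  intro a ha b hb
  have h1 : ∀ b ∈ s, B a b = 0 := by
    intro b hb'
    have hle : Submodule.span F s ≤ LinearMap.ker (B.flip b) :=
      Submodule.span_le.2 fun c hc => by simpa using h c hc b hb'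
    simpa using hle (hts ha)
  have hle : Submodule.span F s ≤ LinearMap.ker (B a) := Submodule.span_le.2 fun c hc => h1 c hc
  exact hle (hts hb)

theorem span_eq_of_relation {k : ℕ} {x : Fin (k + 1) → V} {v : V} {a : Fin (k + 1) → F}
    (h : ∑ j, a j • x j = v) (i : Fin (k + 1)) (hi : a i ≠ 0) :
    span F (Set.range x) = span F (Set.range (Fin.cons v (i.removeNth x) : Fin (k + 1) → V)) := by
  refine le_antisymm (span_le.2 ?_) (span_le.2 ?_)
  · have hr : ∀ j, i.removeNth x j ∈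
        span F (Set.range (Fin.cons v (i.removeNth x) : Fin (k + 1) → V)) :=
      fun j => subset_span ⟨j.succ, by simp⟩
    have hv : v ∈ span F (Set.range (Fin.cons v (i.removeNth x) : Fin (k + 1) → V)) :=
      subset_span ⟨0, by simp⟩
    rintro _ ⟨j, rfl⟩
    rcases Fin.eq_self_or_eq_succAbove i j with rfl | ⟨l, rfl⟩
    · rw [Fin.sum_univ_succAbove _ j] at h
      have e : x j = (a j)⁻¹ • (v - ∑ l, a (j.succAbove l) • x (j.succAbove l)) := by
        rw [← h, add_sub_cancel_right, smul_smul, inv_mul_cancel₀ hi, one_smul]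
      rw [e]
      exact smul_mem _ _ (sub_mem hv (sum_mem fun l _ => smul_mem _ _ (hr l)))
    · exact hr l
  · rintro _ ⟨j, rfl⟩
    refine Fin.cases ?_ (fun l => ?_) j
    · rw [Fin.cons_zero, ← h]
      exact sum_mem fun l _ => smul_mem _ _ (subset_span ⟨l, rfl⟩)
    · rw [Fin.cons_succ]
      exact subset_span ⟨i.succAbove l, rfl⟩

theorem isTup_of_span {B : V →ₗ[F] V →ₗ[F] F} {K : Submodule F V} {k : ℕ} {x y : Fin k → V}
    (h : span F (Set.range x) = span F (Set.range y)) (hx : IsTup B K x) : IsTup B K y := by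
  obtain ⟨hli, hK, hiso⟩ := hx
  have hsub : Set.range y ⊆ span F (Set.range x) := h ▸ subset_span
  refine ⟨?_, fun i => ?_, fun i j => ?_⟩
  · rw [linearIndependent_iff_card_eq_finrank_span] at hli ⊢
    rw [hli, Set.finrank, Set.finrank, h]
  · exact (span_le.2 (by rintro _ ⟨l, rfl⟩; exact hK l) : span F (Set.range x) ≤ K)
      (hsub ⟨i, rfl⟩)
  · exact iso_of_span (by rintro _ ⟨a, rfl⟩ _ ⟨b, rfl⟩; exact hiso a b) hsub _ ⟨i, rfl⟩ _ ⟨j, rfl⟩

/-- Tuples avoiding a given radical vector. -/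
noncomputable def avoidCount (B : V →ₗ[F] V →ₗ[F] F) (K : Submodule F V) (v : V) (k : ℕ) : ℕ :=
  Nat.card {x : Fin k → V // IsTup B K x ∧ v ∉ span F (Set.range x)}

theorem isTup_cons {B : V →ₗ[F] V →ₗ[F] F} {K : Submodule F V} {v : V} (hv : v ∈ K)
    (hB : ∀ w ∈ K, B v w = 0 ∧ B w v = 0) {k : ℕ} {x : Fin k → V} :
    IsTup B K (Fin.cons v x : Fin (k + 1) → V) ↔ IsTup B K x ∧ v ∉ span F (Set.range x) := by
  constructor
  · rintro ⟨hli, hK, hiso⟩
    obtain ⟨h1, h2⟩ := linearIndependent_finCons.1 hli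
    exact ⟨⟨h1, fun i => by simpa using hK i.succ, fun i j => by simpa using hiso i.succ j.succ⟩,
      h2⟩
  · rintro ⟨⟨h1, hK, hiso⟩, h2⟩
    refine ⟨linearIndependent_finCons.2 ⟨h1, h2⟩, fun i => ?_, fun i j => ?_⟩
    · refine Fin.cases ?_ (fun l => ?_) i <;> simp [hv, hK]
    · refine Fin.cases ?_ (fun a => ?_) i <;> refine Fin.cases ?_ (fun b => ?_) j <;>
        simp [hiso, (hB v hv).1, (hB _ (hK _)).1, (hB _ (hK _)).2]

open _root_.Classical in
/-- Split the tuples by whether their span contains the radical vector. -/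
theorem tupCount_succ {B : V →ₗ[F] V →ₗ[F] F} {K : Submodule F V} {v : V} (hv : v ∈ K)
    (hv0 : v ≠ 0) (hB : ∀ w ∈ K, B v w = 0 ∧ B w v = 0) (k : ℕ) :
    tupCount B K (k + 1) =
      avoidCount B K v (k + 1) + (Nat.card F ^ (k + 1) - 1) * avoidCount B K v k := by
  have hA : Nat.card {a : Fin (k + 1) → F // a ≠ 0} = Nat.card F ^ (k + 1) - 1 := by
    haveI := Fintype.ofFinite F
    rw [Nat.card_eq_fintype_card, Fintype.card_subtype_compl, Fintype.card_subtype_eq,
      Fintype.card_fun, Fintype.card_fin, Nat.card_eq_fintype_card]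
  rw [← hA, tupCount, avoidCount, avoidCount, ← Nat.card_prod,
    Nat.card_congr (Equiv.sumCompl (fun x : {x : Fin (k + 1) → V // IsTup B K x} =>
      v ∉ span F (Set.range x.1))).symm, Nat.card_sum,
    Nat.card_congr (Equiv.subtypeSubtypeEquivSubtypeInter (fun x : Fin (k + 1) → V => IsTup B K x)
      (fun x => v ∉ span F (Set.range x)))]
  congr 1
  -- tuples containing `v` in their span, against coefficient vectors
  have hex : ∀ x : {x : {x : Fin (k + 1) → V // IsTup B K x} // ¬ v ∉ span F (Set.range x.1)},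
      ∃ a : Fin (k + 1) → F, ∑ j, a j • x.1.1 j = v := fun x =>
    Submodule.mem_span_range_iff_exists_fun F |>.1 (not_not.1 x.2)
  choose a ha using hex
  have hne : ∀ x, a x ≠ 0 := fun x h => hv0 (by rw [← ha x, h]; simp)
  have hsel : ∀ b : Fin (k + 1) → F, b ≠ 0 → ∃ i, b i ≠ 0 := fun b hb =>
    Function.ne_iff.1 hb
  choose sel hselp using hsel
  have hcons : ∀ x, IsTup B K (Fin.cons v ((sel _ (hne x)).removeNth x.1.1) : Fin (k + 1) → V) :=
    fun x => isTup_of_span (span_eq_of_relation (ha x) _ (hselp _ (hne x))) x.1.2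
  refine Nat.card_eq_of_bijective (fun x => (⟨a x, hne x⟩,
    ⟨(sel _ (hne x)).removeNth x.1.1, (isTup_cons hv hB).1 (hcons x)⟩)) ⟨?_, ?_⟩
  · intro x y e
    have e1 : a x = a y := congrArg (fun z => z.1.1) e
    have e2 := congrArg (fun z => z.2.1) e
    simp only at e2
    have hi : sel _ (hne x) = sel _ (hne y) := by congr 1
    rw [← hi] at e2
    refine Subtype.ext (Subtype.ext (funext fun j => ?_))
    rcases Fin.eq_self_or_eq_succAbove (sel _ (hne x)) j with rfl | ⟨l, rfl⟩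
    · have h1 := ha x
      have h2 := ha y
      rw [← e1] at h2
      rw [Fin.sum_univ_succAbove _ (sel _ (hne x))] at h1 h2
      have e3 : ∀ l, x.1.1 ((sel _ (hne x)).succAbove l) = y.1.1 ((sel _ (hne x)).succAbove l) :=
        fun l => congrFun e2 l
      simp only [e3] at h1
      exact smul_right_injective V (hselp _ (hne x)) (add_right_cancel (h1.trans h2.symm))
    · exact congrFun e2 l
  · rintro ⟨⟨b, hb⟩, ⟨y, hy⟩⟩
    set i := sel b hb with hi
    let x : Fin (k + 1) → V :=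
      i.insertNth ((b i)⁻¹ • (v - ∑ l, b (i.succAbove l) • y l)) y
    have hrel : ∑ j, b j • x j = v := by
      rw [Fin.sum_univ_succAbove _ i]
      simp only [x, Fin.insertNth_apply_same, Fin.insertNth_apply_succAbove]
      rw [smul_smul, mul_inv_cancel₀ (hselp b hb), one_smul, sub_add_cancel]
    have hrem : i.removeNth x = y := by simp [x]
    have hsp := span_eq_of_relation hrel i (hselp b hb)
    rw [hrem] at hsp
    have hx : IsTup B K x := isTup_of_span hsp.symm ((isTup_cons hv hB).2 hy)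
    have hmem : ¬ v ∉ span F (Set.range x) := not_not.2 (by
      rw [hsp]; exact subset_span ⟨0, by simp⟩)
    refine ⟨⟨⟨x, hx⟩, hmem⟩, ?_⟩
    have hb' : a ⟨⟨x, hx⟩, hmem⟩ = b := by
      refine funext fun j => ?_
      have h := (Fintype.linearIndependent_iff.1 hx.1) (fun j => a ⟨⟨x, hx⟩, hmem⟩ j - b j)
        (by simp only [sub_smul, Finset.sum_sub_distrib]; rw [ha ⟨⟨x, hx⟩, hmem⟩, hrel, sub_self]) j
      exact sub_eq_zero.1 h
    refine Prod.ext (Subtype.ext hb') (Subtype.ext ?_)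
    show (sel _ (hne _)).removeNth x = y
    rw [show sel _ (hne ⟨⟨x, hx⟩, hmem⟩) = i by simp only [hi, hb']]
    exact hrem

theorem avoidCount_eq_zero (B : V →ₗ[F] V →ₗ[F] F) (K : Submodule F V) (v : V) {k : ℕ}
    (hk : Module.finrank F V ≤ k) : avoidCount B K v k = 0 := by
  have : IsEmpty {x : Fin k → V // IsTup B K x ∧ v ∉ span F (Set.range x)} := by
    refine ⟨fun x => ?_⟩
    haveI : Module.Finite F V := Module.Finite.of_finite
    have h := linearIndependent_finCons.2 ⟨x.2.1.1, x.2.2⟩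
    have := h.fintype_card_le_finrank
    rw [Fintype.card_fin] at this
    omega
  exact Nat.card_of_isEmpty

/-- The weighted number of tuples vanishes when there is a radical vector. -/
theorem sum_wt_tupCount {B : V →ₗ[F] V →ₗ[F] F} {K : Submodule F V} {v : V} (hv : v ∈ K)
    (hv0 : v ≠ 0) (hB : ∀ w ∈ K, B v w = 0 ∧ B w v = 0) {N : ℕ}
    (hN : Module.finrank F V ≤ N) :
    ∑ k ∈ Finset.range (N + 1), wt (Nat.card F) k * (tupCount B K k : ℚ) = 0 := by
  have hq : 1 < Nat.card F := Finite.one_lt_card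
  have key : ∀ M, ∑ k ∈ Finset.range (M + 1), wt (Nat.card F) k * (tupCount B K k : ℚ) =
      wt (Nat.card F) M * (avoidCount B K v M : ℚ) := by
    intro M
    induction M with
    | zero =>
      have : avoidCount B K v 0 = 1 := by
        refine Nat.card_eq_one_iff_unique.2 ⟨⟨fun a b => Subtype.ext (Subsingleton.elim _ _)⟩,
          ⟨⟨Fin.elim0, ⟨linearIndependent_empty_type, fun i => i.elim0, fun i => i.elim0⟩, ?_⟩⟩⟩
        simpa using hv0
      simp [this, tupCount_zero]
    | succ M ih =>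
      rw [Finset.sum_range_succ, ih, tupCount_succ hv hv0 hB, Nat.cast_add, Nat.cast_mul,
        Nat.cast_sub (Nat.one_le_pow _ _ (by omega)), Nat.cast_pow, Nat.cast_one]
      linear_combination (avoidCount B K v M : ℚ) * wt_succ hq M
  rw [key, avoidCount_eq_zero B K v hN, Nat.cast_zero, mul_zero]

/-! ### Pairs of a `p`-element and a fixed tuple -/

variable {G : Type*} [Group G] [Finite G]

/-- The fixed space of `g`. -/
def fixed (ρ : G →* Module.End F V) (g : G) : Submodule F V := LinearMap.ker (ρ g - 1)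

theorem mem_fixed {ρ : G →* Module.End F V} {g : G} {v : V} : v ∈ fixed ρ g ↔ ρ g v = v := by
  simp [fixed, sub_eq_zero]

/-- Being a `p`-element. -/
def PEl (p : ℕ) (g : G) : Prop := ∃ j, g ^ p ^ j = 1

/-- Pairs of an element with property `Q` and a fixed tuple. -/
noncomputable def pairCount (Q : G → Prop) (B : V →ₗ[F] V →ₗ[F] F) (ρ : G →* Module.End F V) (k : ℕ) :
    ℕ :=
  Nat.card {z : G × (Fin k → V) // Q z.1 ∧ IsTup B (fixed ρ z.1) z.2}

/-- Pairs with a prescribed first vector `e`, the vector being left out. -/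
noncomputable def stabCount (Q : G → Prop) (B : V →ₗ[F] V →ₗ[F] F) (ρ : G →* Module.End F V) (e : V)
    (k : ℕ) : ℕ :=
  Nat.card {z : G × (Fin k → V) // Q z.1 ∧
    IsTup B (fixed ρ z.1) (Fin.cons e z.2 : Fin (k + 1) → V)}

theorem pairCount_zero (Q : G → Prop) (B : V →ₗ[F] V →ₗ[F] F) (ρ : G →* Module.End F V) :
    pairCount Q B ρ 0 = Nat.card {g : G // Q g} :=
  Nat.card_congr
    { toFun := fun z => ⟨z.1.1, z.2.1⟩
      invFun := fun g => ⟨(g.1, Fin.elim0), g.2, linearIndependent_empty_type,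
        fun i => i.elim0, fun i => i.elim0⟩
      left_inv := fun z => Subtype.ext (Prod.ext rfl (Subsingleton.elim _ _))
      right_inv := fun g => rfl }

theorem pEl_conj (p : ℕ) (c g : G) (h : PEl p g) : PEl p (c * g * c⁻¹) :=
  ⟨h.choose, by rw [conj_pow, h.choose_spec, mul_one, mul_inv_cancel]⟩

open _root_.Classical in
theorem pairCount_succ (Q : G → Prop) (hQ : ∀ c g, Q g → Q (c * g * c⁻¹)) (B : V →ₗ[F] V →ₗ[F] F) (ρ : G →* Module.End F V)
    (hinv : ∀ g a b, B (ρ g a) (ρ g b) = B a b) {e : V}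
    (htrans : ∀ v : V, v ≠ 0 → ∃ h : G, ρ h e = v) (k : ℕ) :
    pairCount Q B ρ (k + 1) = (Nat.card V - 1) * stabCount Q B ρ e k := by
  have hV : Nat.card {v : V // v ≠ 0} = Nat.card V - 1 := by
    haveI := Fintype.ofFinite V
    rw [Nat.card_eq_fintype_card, Fintype.card_subtype_compl, Fintype.card_subtype_eq,
      Nat.card_eq_fintype_card]
  choose h hh using htrans
  rw [← hV, stabCount, ← Nat.card_prod]
  have hρ : ∀ g : G, ∀ v, ρ g⁻¹ (ρ g v) = v := fun g v => by
    rw [← Module.End.mul_apply, ← map_mul, inv_mul_cancel, map_one, Module.End.one_apply]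
  have hρ' : ∀ g : G, ∀ v, ρ g (ρ g⁻¹ v) = v := fun g v => by
    simpa using hρ g⁻¹ v
  have move : ∀ (c g : G) {l : ℕ} (x : Fin l → V), IsTup B (fixed ρ g) x →
      IsTup B (fixed ρ (c * g * c⁻¹)) (fun i => ρ c (x i)) := by
    intro c g l x hx
    refine ⟨hx.1.map' (ρ c) (LinearMap.ker_eq_bot.2 (Function.LeftInverse.injective (hρ c))),
      fun i => mem_fixed.2 ?_, fun i j => by rw [hinv]; exact hx.2.2 i j⟩
    rw [map_mul, map_mul, Module.End.mul_apply, Module.End.mul_apply, hρ, mem_fixed.1 (hx.2.1 i)]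
  have movep : ∀ (c g : G), Q g → Q (c * g * c⁻¹) := hQ
  refine Nat.card_congr
    { toFun := fun z =>
        have h0 : z.1.2 0 ≠ 0 := z.2.2.1.ne_zero 0
        (⟨z.1.2 0, h0⟩, ⟨((h _ h0)⁻¹ * z.1.1 * h _ h0, fun i => ρ (h _ h0)⁻¹ (z.1.2 i.succ)),
          by simpa using movep (h _ h0)⁻¹ _ z.2.1, ?_⟩)
      invFun := fun w => ⟨(h _ w.1.2 * w.2.1.1 * (h _ w.1.2)⁻¹,
          Fin.cons w.1.1 fun i => ρ (h _ w.1.2) (w.2.1.2 i)), movep _ _ w.2.2.1, ?_⟩
      left_inv := ?_
      right_inv := ?_ }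
  · have h0 : z.1.2 0 ≠ 0 := z.2.2.1.ne_zero 0
    have := move (h _ h0)⁻¹ _ _ z.2.2
    simp only [inv_inv] at this
    convert this using 1
    refine funext fun i => ?_
    refine Fin.cases ?_ (fun l => ?_) i
    · simp only [Fin.cons_zero]
      have h1 := congrArg (ρ (h _ h0)⁻¹) (hh _ h0)
      rw [hρ] at h1
      exact h1
    · simp
  · have := move (h _ w.1.2) _ _ w.2.2.2
    convert this using 1
    refine funext fun i => ?_
    refine Fin.cases ?_ (fun l => ?_) i
    · simp [hh]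
    · simp
  · intro z
    have h0 : z.1.2 0 ≠ 0 := z.2.2.1.ne_zero 0
    refine Subtype.ext (Prod.ext ?_ (funext fun i => ?_))
    · show h _ h0 * ((h _ h0)⁻¹ * z.1.1 * h _ h0) * (h _ h0)⁻¹ = z.1.1
      group
    · refine Fin.cases ?_ (fun l => ?_) i
      · rfl
      · show ρ (h _ h0) (ρ (h _ h0)⁻¹ (z.1.2 l.succ)) = z.1.2 l.succ
        exact hρ' _ _
  · rintro ⟨⟨v, hv⟩, ⟨⟨g, y⟩, hgy⟩⟩
    refine Prod.ext (Subtype.ext rfl) (Subtype.ext (Prod.ext ?_ (funext fun i => ?_)))
    · show (h v hv)⁻¹ * (h v hv * g * (h v hv)⁻¹) * h v hv = g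
      group
    · show ρ (h v hv)⁻¹ (ρ (h v hv) (y i)) = y i
      exact hρ _ _

/-- A nontrivial `p`-element fixes a nonzero vector of the radical of its fixed space. -/
theorem exists_radical {p : ℕ} [Fact p.Prime] [CharP F p] (B : V →ₗ[F] V →ₗ[F] F)
    (ρ : G →* Module.End F V) (hinv : ∀ g a b, B (ρ g a) (ρ g b) = B a b) {g : G}
    (hg : ∃ j, g ^ p ^ j = 1) (hne : ρ g ≠ 1) :
    ∃ v ∈ fixed ρ g, v ≠ 0 ∧ ∀ w ∈ fixed ρ g, B v w = 0 ∧ B w v = 0 := by
  obtain ⟨j, hj⟩ := hg
  have hnil : (ρ g - 1) ^ p ^ j = 0 := by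
    haveI : Nontrivial (Module.End F V) := ⟨⟨ρ g, 1, hne⟩⟩
    haveI : CharP (Module.End F V) p := charP_of_injective_algebraMap
      (FaithfulSMul.algebraMap_injective F (Module.End F V)) p
    rw [sub_pow_char_pow_of_commute _ _ (Commute.one_right _), ← map_pow, hj, map_one, one_pow,
      sub_self]
  obtain ⟨u, hu⟩ : ∃ u, (ρ g - 1) u ≠ 0 := by
    by_contra hc
    simp only [not_exists, not_not] at hc
    exact hne (sub_eq_zero.1 (LinearMap.ext hc))
  classical
  have hex : ∃ m : ℕ, ((ρ g - 1) ^ (m + 1)) u = 0 := by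
    refine ⟨p ^ j, ?_⟩
    rw [pow_succ', Module.End.mul_apply, hnil]
    simp
  obtain ⟨m, hm⟩ : ∃ m, Nat.find hex = m + 1 := by
    refine Nat.exists_eq_succ_of_ne_zero fun h0 => hu ?_
    have := Nat.find_spec hex
    rwa [h0, zero_add, pow_one] at this
  have hlast : ((ρ g - 1) ^ (m + 1)) u ≠ 0 := Nat.find_min hex (by omega)
  refine ⟨((ρ g - 1) ^ (m + 1)) u, ?_, hlast, fun w hw => ?_⟩
  · show (ρ g - 1) (((ρ g - 1) ^ (m + 1)) u) = 0
    rw [← Module.End.mul_apply, ← pow_succ', ← hm]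
    exact Nat.find_spec hex
  · have hw' := mem_fixed.1 hw
    rw [pow_succ', Module.End.mul_apply, LinearMap.sub_apply, Module.End.one_apply]
    constructor
    · rw [map_sub, LinearMap.sub_apply]
      conv_lhs => arg 1; rw [← hw', hinv]
      exact sub_self _
    · rw [map_sub]
      conv_lhs => arg 1; rw [← hw', hinv]
      exact sub_self _

open _root_.Classical in
/-- Only the identity contributes to the weighted count of pairs. -/
theorem sum_wt_pairCount {p : ℕ} [Fact p.Prime] [CharP F p] (B : V →ₗ[F] V →ₗ[F] F)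
    (ρ : G →* Module.End F V) (hinj : Function.Injective ρ)
    (hinv : ∀ g a b, B (ρ g a) (ρ g b) = B a b) {N : ℕ} (hN : Module.finrank F V ≤ N) :
    ∑ k ∈ Finset.range (N + 1), wt (Nat.card F) k * (pairCount (PEl p) B ρ k : ℚ) =
      ∑ k ∈ Finset.range (N + 1), wt (Nat.card F) k * (tupCount B (fixed ρ 1) k : ℚ) := by
  haveI := Fintype.ofFinite G
  have e : ∀ k, pairCount (PEl p) B ρ k = ∑ g : {g : G // ∃ j, g ^ p ^ j = 1},
      tupCount B (fixed ρ g.1) k := by
    intro k
    simp only [tupCount, ← Nat.card_sigma]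
    exact Nat.card_congr
      { toFun := fun z => ⟨⟨z.1.1, z.2.1⟩, ⟨z.1.2, z.2.2⟩⟩
        invFun := fun s => ⟨(s.1.1, s.2.1), s.1.2, s.2.2⟩
        left_inv := fun z => rfl
        right_inv := fun s => rfl }
  simp only [e, Nat.cast_sum, Finset.mul_sum]
  rw [Finset.sum_comm, Finset.sum_eq_single (⟨1, 0, by simp⟩ : {g : G // ∃ j, g ^ p ^ j = 1})]
  · intro g _ hg
    have hne : ρ g.1 ≠ 1 := fun h => hg (Subtype.ext (hinj (by rw [h, map_one])))
    obtain ⟨v, hv, hv0, hB⟩ := exists_radical B ρ hinv g.2 hne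
    exact sum_wt_tupCount hv hv0 hB hN
  · simp

theorem pairCount_one (B : V →ₗ[F] V →ₗ[F] F) (ρ : G →* Module.End F V) (k : ℕ) :
    pairCount (fun g => g = 1) B ρ k = tupCount B (fixed ρ 1) k :=
  Nat.card_congr
    { toFun := fun z => ⟨z.1.2, by simpa only [z.2.1] using z.2.2⟩
      invFun := fun x => ⟨(1, x.1), rfl, x.2⟩
      left_inv := fun z => Subtype.ext (Prod.ext z.2.1.symm rfl)
      right_inv := fun x => rfl }

end CfsgLib.UnipotentCount
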