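/-
Pairs through a fixed vector reduce to the group induced on its perpendicular quotient.
-/
import Mathlib
import Cfsg.Agent.Lib.UnipotentCount.Tuples

set_option autoImplicit false
set_option linter.unusedSectionVars false
set_option linter.style.haveILetI false

namespace CfsgLib.UnipotentCount

open Submodule

/-- A vector `e` of `V` with model `V'` of its perpendicular modulo itself, and coordinates of its
stabilizer. -/
structure Model {F : Type*} [Field F] {V V' W : Type*} [AddCommGroup V] [Module F V]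
    [AddCommGroup V'] [Module F V'] [AddCommGroup W] [Module F W] {G G' : Type*} [Group G]
    [Group G'] (B : V →ₗ[F] V →ₗ[F] F) (B' : V' →ₗ[F] V' →ₗ[F] F) (ρ : G →* Module.End F V)
    (ρ' : G' →* Module.End F V') (e : V) where
  j : V' →ₗ[F] V
  C : W →ₗ[F] V' →ₗ[F] F
  Φ : {g : G // ρ g e = e} ≃ W × G'
  perp_left : ∀ (a : F) (z : V'), B e (a • e + j z) = 0
  perp_right : ∀ (a : F) (z : V'), B (a • e + j z) e = 0
  exists_coord : ∀ y : V, B e y = 0 → ∃ (a : F) (z : V'), y = a • e + j z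
  coord_eq_zero : ∀ (a : F) (z : V'), a • e + j z = 0 → a = 0 ∧ z = 0
  form : ∀ (a b : F) (z z' : V'), B (a • e + j z) (b • e + j z') = B' z z'
  act : ∀ (g : {g : G // ρ g e = e}) (z : V'),
    ρ g.1 (j z) = j (ρ' (Φ g).2 z) + C (Φ g).1 (ρ' (Φ g).2 z) • e
  inv : ∀ (g : G) (a b : V), B (ρ g a) (ρ g b) = B a b
  nondeg : ∀ z : V', z ≠ 0 → ∀ φ : F, ∃ w, C w z = φ

namespace Model

variable {F : Type*} [Field F] [Finite F] {V V' W : Type*} [AddCommGroup V] [Module F V]
  [AddCommGroup V'] [Module F V'] [AddCommGroup W] [Module F W] [Finite V] [Finite V'] [Finite W]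
  {G G' : Type*} [Group G] [Group G'] [Finite G] [Finite G']
  {B : V →ₗ[F] V →ₗ[F] F} {B' : V' →ₗ[F] V' →ₗ[F] F} {ρ : G →* Module.End F V}
  {ρ' : G' →* Module.End F V'} {e : V}

theorem coord_inj (M : Model (W := W) B B' ρ ρ' e) {a b : F} {z z' : V'}
    (h : a • e + M.j z = b • e + M.j z') : a = b ∧ z = z' := by
  have h' : (a - b) • e + M.j (z - z') = 0 := by
    rw [sub_smul, map_sub]
    linear_combination (norm := abel) h
  exact ⟨sub_eq_zero.1 (M.coord_eq_zero _ _ h').1, sub_eq_zero.1 (M.coord_eq_zero _ _ h').2⟩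

theorem act_perp (M : Model (W := W) B B' ρ ρ' e) (g : {g : G // ρ g e = e}) (a : F) (z : V') :
    ρ g.1 (a • e + M.j z) =
      (a + M.C (M.Φ g).1 (ρ' (M.Φ g).2 z)) • e + M.j (ρ' (M.Φ g).2 z) := by
  rw [map_add, map_smul, g.2, M.act, add_smul]
  abel

theorem isTup_iff (M : Model (W := W) B B' ρ ρ' e) (he : e ≠ 0) (g : {g : G // ρ g e = e})
    {k : ℕ} (a : Fin k → F) (z : Fin k → V') :
    IsTup B (fixed ρ g.1) (Fin.cons e (fun i => a i • e + M.j (z i)) : Fin (k + 1) → V) ↔
      IsTup B' (fixed ρ' (M.Φ g).2) z ∧ ∀ i, M.C (M.Φ g).1 (z i) = 0 := by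
  have hfix : ∀ i, ρ g.1 (a i • e + M.j (z i)) = a i • e + M.j (z i) ↔
      ρ' (M.Φ g).2 (z i) = z i ∧ M.C (M.Φ g).1 (z i) = 0 := by
    intro i
    rw [M.act_perp]
    refine ⟨fun h => ?_, fun h => by rw [h.1, h.2, add_zero]⟩
    obtain ⟨h1, h2⟩ := M.coord_inj h
    rw [h2] at h1
    exact ⟨h2, by linear_combination h1⟩
  have hli : LinearIndependent F (Fin.cons e (fun i => a i • e + M.j (z i)) : Fin (k + 1) → V) ↔
      LinearIndependent F z := by
    rw [Fintype.linearIndependent_iff, Fintype.linearIndependent_iff]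
    constructor
    · intro h c hc i
      have := h (Fin.cons (-∑ i, c i * a i) c) (by
        rw [Fin.sum_univ_succ]
        simp only [Fin.cons_zero, Fin.cons_succ, smul_add, smul_smul, Finset.sum_add_distrib]
        rw [← Finset.sum_smul]
        simp only [← map_smul, ← map_sum, hc, map_zero, add_zero]
        rw [← add_smul, neg_add_cancel, zero_smul]) i.succ
      simpa using this
    · intro h c hc
      rw [Fin.sum_univ_succ] at hc
      simp only [Fin.cons_zero, Fin.cons_succ, smul_add, smul_smul, Finset.sum_add_distrib] at hc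
      rw [← Finset.sum_smul] at hc
      simp only [← map_smul, ← map_sum] at hc
      rw [← add_assoc, ← add_smul] at hc
      obtain ⟨h1, h2⟩ := M.coord_eq_zero _ _ hc
      have h3 := h _ h2
      intro i
      refine Fin.cases ?_ (fun l => h3 l) i
      simpa [h3] using h1
  constructor
  · rintro ⟨h1, h2, h3⟩
    have hf : ∀ i, _ := fun i => (hfix i).1 (by simpa using mem_fixed.1 (h2 i.succ))
    refine ⟨⟨hli.1 h1, fun i => mem_fixed.2 (hf i).1, fun i l => ?_⟩, fun i => (hf i).2⟩
    have := h3 i.succ l.succ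
    simp only [Fin.cons_succ] at this
    rwa [M.form] at this
  · rintro ⟨⟨h1, h2, h3⟩, hC⟩
    refine ⟨hli.2 h1, fun i => ?_, fun i l => ?_⟩
    · refine Fin.cases ?_ (fun l => ?_) i
      · exact mem_fixed.2 g.2
      · rw [Fin.cons_succ]
        exact mem_fixed.2 ((hfix l).2 ⟨mem_fixed.1 (h2 l), hC l⟩)
    · have h0 : (0 : F) • e + M.j 0 = 0 := by simp
      have hee : B e e = 0 := by simpa using M.perp_left 1 0
      refine Fin.cases ?_ (fun i => ?_) i <;> refine Fin.cases ?_ (fun l => ?_) l <;>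
        simp only [Fin.cons_zero, Fin.cons_succ, hee, M.perp_left, M.perp_right, M.form, h3]

theorem card_annihilator (M : Model (W := W) B B' ρ ρ' e) {k : ℕ} {z : Fin k → V'}
    (hz : LinearIndependent F z) :
    Nat.card {w : W // ∀ i, M.C w (z i) = 0} * Nat.card F ^ k = Nat.card W := by
  let L : W →ₗ[F] (Fin k → F) := LinearMap.pi fun i => M.C.flip (z i)
  have hL : Function.Surjective L := by
    rw [← LinearMap.dualMap_injective_iff, ← LinearMap.ker_eq_bot, LinearMap.ker_eq_bot']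
    intro φ hφ
    refine LinearMap.ext fun c => ?_
    have hexp : ∀ c : Fin k → F, φ c = ∑ i, c i * φ (Pi.single i 1) := fun c => by
      conv_lhs => rw [pi_eq_sum_univ' c, map_sum]
      simp
    have hz0 : ∑ i, φ (Pi.single i 1) • z i = 0 := by
      by_contra hne
      obtain ⟨w, hw⟩ := M.nondeg _ hne 1
      have h1 : φ (L w) = 0 := LinearMap.congr_fun hφ w
      rw [hexp] at h1
      have h2 : M.C w (∑ i, φ (Pi.single i 1) • z i) = 0 := by
        rw [map_sum, ← h1]
        exact Finset.sum_congr rfl fun i _ => by simp [L, mul_comm]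
      rw [hw] at h2
      exact one_ne_zero h2
    rw [hexp, LinearMap.zero_apply]
    simp [Fintype.linearIndependent_iff.1 hz _ hz0]
  have h1 := Submodule.card_eq_card_quotient_mul_card (LinearMap.ker L)
  rw [Nat.card_congr (L.quotKerEquivOfSurjective hL).toEquiv, Nat.card_fun, Nat.card_fin] at h1
  have h2 : Nat.card {w : W // ∀ i, M.C w (z i) = 0} = Nat.card ↥(LinearMap.ker L) :=
    Nat.card_congr (Equiv.subtypeEquivRight fun w => by
      simp [L, LinearMap.mem_ker, funext_iff])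
  rw [h2, h1]

open _root_.Classical in
/-- Counting pairs through `e` whose property reduces to the induced element. -/
theorem stabCount_eq (M : Model (W := W) B B' ρ ρ' e) (he : e ≠ 0) (Q : G → Prop) (Q' : G' → Prop)
    (hQ : ∀ g : {g : G // ρ g e = e}, Q g.1 ↔ Q' (M.Φ g).2) (k : ℕ) :
    stabCount Q B ρ e k = Nat.card W * pairCount Q' B' ρ' k := by
  haveI := Fintype.ofFinite {z : G' × (Fin k → V') // Q' z.1 ∧ IsTup B' (fixed ρ' z.1) z.2}
  have key : ∀ (g : G) (y : Fin k → V),
      IsTup B (fixed ρ g) (Fin.cons e y : Fin (k + 1) → V) → ρ g e = e ∧ ∀ i, B e (y i) = 0 :=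
    fun g y h => ⟨by simpa using mem_fixed.1 (h.2.1 0), fun i => by simpa using h.2.2 0 i.succ⟩
  let inn : G' × (Fin k → V') → Prop := fun z => Q' z.1 ∧ IsTup B' (fixed ρ' z.1) z.2
  rw [stabCount, pairCount]
  have e1 : Nat.card {z : G × (Fin k → V) //
      Q z.1 ∧ IsTup B (fixed ρ z.1) (Fin.cons e z.2 : Fin (k + 1) → V)} =
      Nat.card (Σ z : {z : G' × (Fin k → V') // Q' z.1 ∧ IsTup B' (fixed ρ' z.1) z.2},
        (Fin k → F) × {w : W // ∀ i, M.C w (z.1.2 i) = 0}) := by
    symm
    refine Nat.card_eq_of_bijective (fun s => ⟨((M.Φ.symm (s.2.2.1, s.1.1.1)).1,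
      fun i => s.2.1 i • e + M.j (s.1.1.2 i)), ?_, ?_⟩) ⟨?_, ?_⟩
    · rw [hQ, M.Φ.apply_symm_apply]
      exact s.1.2.1
    · rw [M.isTup_iff he, M.Φ.apply_symm_apply]
      exact ⟨s.1.2.2, s.2.2.2⟩
    · rintro ⟨⟨⟨h, z⟩, hz⟩, a, ⟨w, hw⟩⟩ ⟨⟨⟨h', z'⟩, hz'⟩, a', ⟨w', hw'⟩⟩ E
      have E1 := congrArg (fun t => t.1.1) E
      have E2 := congrArg (fun t => t.1.2) E
      simp only at E1 E2
      have E3 := M.Φ.symm.injective (Subtype.ext E1)
      obtain ⟨rfl, rfl⟩ := Prod.mk.injEq _ _ _ _ |>.mp E3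
      have E4 := fun i => M.coord_inj (congrFun E2 i)
      obtain rfl : z = z' := funext fun i => (E4 i).2
      obtain rfl : a = a' := funext fun i => (E4 i).1
      rfl
    · rintro ⟨⟨g, y⟩, hg, hy⟩
      obtain ⟨hge, hperp⟩ := key g y hy
      choose a z hyz using fun i => M.exists_coord (y i) (hperp i)
      have hy' : IsTup B (fixed ρ g)
          (Fin.cons e (fun i => a i • e + M.j (z i)) : Fin (k + 1) → V) := by
        simpa only [← hyz] using hy
      obtain ⟨h1, h2⟩ := (M.isTup_iff he ⟨g, hge⟩ a z).1 hy'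
      refine ⟨⟨⟨((M.Φ ⟨g, hge⟩).2, z), (hQ ⟨g, hge⟩).1 hg, h1⟩, a, ⟨(M.Φ ⟨g, hge⟩).1, h2⟩⟩,
        Subtype.ext (Prod.ext ?_ (funext fun i => (hyz i).symm))⟩
      show (M.Φ.symm ((M.Φ ⟨g, hge⟩).1, (M.Φ ⟨g, hge⟩).2)).1 = g
      rw [Prod.mk.eta, M.Φ.symm_apply_apply]
  rw [e1, Nat.card_sigma, Finset.sum_congr rfl (g := fun _ => Nat.card W), Finset.sum_const,
    Finset.card_univ, smul_eq_mul, ← Nat.card_eq_fintype_card, mul_comm]
  intro z _
  rw [Nat.card_prod, Nat.card_fun, Nat.card_fin, mul_comm, M.card_annihilator z.2.2.1]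

/-- An element fixing `e` is a `p`-element exactly when the induced element is. -/
theorem pEl_iff (M : Model (W := W) B B' ρ ρ' e) {p : ℕ} [Fact p.Prime] [CharP F p]
    (hinj : Function.Injective ρ) (hinj' : Function.Injective ρ') (g : {g : G // ρ g e = e}) :
    PEl p g.1 ↔ PEl p (M.Φ g).2 := by
  have hpow : ∀ n : ℕ, ∀ z, ∃ c : F,
      ρ (g.1 ^ n) (M.j z) = c • e + M.j (ρ' ((M.Φ g).2 ^ n) z) := by
    intro n
    induction n with
    | zero => exact fun z => ⟨0, by simp⟩
    | succ n ih =>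
      intro z
      obtain ⟨c, hc⟩ := ih z
      refine ⟨c + M.C (M.Φ g).1 (ρ' (M.Φ g).2 (ρ' ((M.Φ g).2 ^ n) z)), ?_⟩
      rw [pow_succ', map_mul, Module.End.mul_apply, hc, M.act_perp, pow_succ', map_mul,
        Module.End.mul_apply]
  have he : ∀ n : ℕ, ρ (g.1 ^ n) e = e := by
    intro n
    induction n with
    | zero => simp
    | succ n ih => rw [pow_succ', map_mul, Module.End.mul_apply, ih, g.2]
  constructor
  · rintro ⟨i, hi⟩
    refine ⟨i, hinj' (LinearMap.ext fun z => ?_)⟩
    obtain ⟨c, hc⟩ := hpow (p ^ i) z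
    rw [hi, map_one, Module.End.one_apply] at hc
    rw [map_one, Module.End.one_apply]
    have : (0 : F) • e + M.j z = c • e + M.j (ρ' ((M.Φ g).2 ^ p ^ i) z) := by simpa using hc
    exact (M.coord_inj this).2.symm
  · rintro ⟨i, hi⟩
    set g' := g.1 ^ p ^ i with hg'
    set N := ρ g' - 1 with hN
    have hNe : N e = 0 := by
      rw [hN, LinearMap.sub_apply, Module.End.one_apply, hg', he, sub_self]
    have hNperp : ∀ y, B e y = 0 → ∃ c : F, N y = c • e := by
      intro y hy
      obtain ⟨a, z, rfl⟩ := M.exists_coord y hy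
      obtain ⟨c, hc⟩ := hpow (p ^ i) z
      rw [hi, map_one, Module.End.one_apply, ← hg'] at hc
      refine ⟨c, ?_⟩
      rw [map_add, map_smul, hNe, smul_zero, zero_add, hN, LinearMap.sub_apply, hc,
        Module.End.one_apply, add_sub_cancel_right]
    have hN3 : N ^ 3 = 0 := by
      refine LinearMap.ext fun y => ?_
      have h1 : B e (N y) = 0 := by
        rw [hN, LinearMap.sub_apply, Module.End.one_apply, map_sub, sub_eq_zero]
        conv_lhs => rw [← he (p ^ i), ← hg', M.inv]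
      obtain ⟨c, hc⟩ := hNperp _ h1
      rw [pow_succ', pow_succ', pow_one, Module.End.mul_apply, Module.End.mul_apply, hc, map_smul,
        hNe, smul_zero, LinearMap.zero_apply]
    refine ⟨i + 2, hinj ?_⟩
    rcases subsingleton_or_nontrivial (Module.End F V) with h | h
    · exact Subsingleton.elim _ _
    haveI : CharP (Module.End F V) p := charP_of_injective_algebraMap
      (FaithfulSMul.algebraMap_injective F (Module.End F V)) p
    have h3 : N ^ p ^ 2 = 0 := pow_eq_zero_of_le (by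
      have := (Fact.out : p.Prime).two_le
      calc 3 ≤ 2 ^ 2 := by norm_num
        _ ≤ p ^ 2 := Nat.pow_le_pow_left this 2) hN3
    rw [hN, sub_pow_char_pow_of_commute _ _ (Commute.one_right _), one_pow, sub_eq_zero,
      ← map_pow, hg', ← pow_mul, ← pow_add] at h3
    rw [map_one, h3]

end Model

end CfsgLib.UnipotentCount
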