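/-
The models for the general linear and symplectic groups and the identities between the counts.
-/
import Mathlib
import Cfsg.Agent.Lib.UnipotentCount.Stab
import Cfsg.Agent.Lib.Classical.SpOrder

set_option autoImplicit false
set_option linter.unusedSectionVars false

namespace CfsgLib.UnipotentCount

open Matrix

theorem telescope (R R' E a b : ℕ → ℚ) (N : ℕ) (h0 : R' 0 = R 0)
    (hs : ∀ k, R' (k + 1) = a (k + 1) * R (k + 1) - b k * R k) (ha : a 0 = 1)
    (hN : R (N + 1) = 0) :
    ∑ k ∈ Finset.range (N + 2), R' k * E k =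
      ∑ k ∈ Finset.range (N + 1), R k * (a k * E k - b k * E (k + 1)) := by
  rw [Finset.sum_range_succ' _ (N + 1), h0]
  have h1 : ∑ k ∈ Finset.range (N + 1), R' (k + 1) * E (k + 1) =
      ∑ k ∈ Finset.range (N + 1), a (k + 1) * R (k + 1) * E (k + 1) -
        ∑ k ∈ Finset.range (N + 1), b k * R k * E (k + 1) := by
    rw [← Finset.sum_sub_distrib]
    exact Finset.sum_congr rfl fun k _ => by rw [hs]; ring
  have h2 : ∑ k ∈ Finset.range (N + 1), a (k + 1) * R (k + 1) * E (k + 1) + R 0 * E 0 =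
      ∑ k ∈ Finset.range (N + 1), a k * R k * E k := by
    have h := Finset.sum_range_succ' (fun k => a k * R k * E k) (N + 1)
    rw [Finset.sum_range_succ, hN, mul_zero, zero_mul, add_zero, ha, one_mul] at h
    exact h.symm
  have h3 : ∑ k ∈ Finset.range (N + 1), R k * (a k * E k - b k * E (k + 1)) =
      ∑ k ∈ Finset.range (N + 1), a k * R k * E k -
        ∑ k ∈ Finset.range (N + 1), b k * R k * E (k + 1) := by
    rw [← Finset.sum_sub_distrib]
    exact Finset.sum_congr rfl fun k _ => by ring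
  rw [h3, ← h2, h1]
  ring

theorem pairCount_eq_zero {F : Type*} [Field F] [Finite F] {V : Type*} [AddCommGroup V]
    [Module F V] [Finite V] [Subsingleton V] {G : Type*} [Group G] [Finite G] (Q : G → Prop)
    (B : V →ₗ[F] V →ₗ[F] F) (ρ : G →* Module.End F V) (k : ℕ) :
    pairCount Q B ρ (k + 1) = 0 := by
  have : IsEmpty {z : G × (Fin (k + 1) → V) // Q z.1 ∧ IsTup B (fixed ρ z.1) z.2} :=
    ⟨fun z => z.2.2.1.ne_zero 0 (Subsingleton.elim _ _)⟩
  exact Nat.card_of_isEmpty

open _root_.Classical in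
theorem Model.stabCount_one {F : Type*} [Field F] [Finite F] {V V' W : Type*} [AddCommGroup V]
    [Module F V] [AddCommGroup V'] [Module F V'] [AddCommGroup W] [Module F W] [Finite V]
    [Finite V'] [Finite W] {G G' : Type*} [Group G] [Group G'] [Finite G] [Finite G']
    {B : V →ₗ[F] V →ₗ[F] F} {B' : V' →ₗ[F] V' →ₗ[F] F} {ρ : G →* Module.End F V}
    {ρ' : G' →* Module.End F V'} {e : V} (M : Model (W := W) B B' ρ ρ' e) (he : e ≠ 0)
    (hinj' : Function.Injective ρ') (k : ℕ) :
    stabCount (fun g => g = 1) B ρ e k =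
      Nat.card F ^ k * pairCount (fun h => h = 1) B' ρ' k := by
  have h1e : ρ 1 e = e := by simp
  set g₁ : {g : G // ρ g e = e} := ⟨1, h1e⟩
  have hone : ∀ z, ρ' (M.Φ g₁).2 z = z ∧ M.C (M.Φ g₁).1 z = 0 := by
    intro z
    have h := M.act g₁ z
    simp only [g₁, map_one, Module.End.one_apply] at h
    have h' : (0 : F) • e + M.j z =
        M.C (M.Φ g₁).1 (ρ' (M.Φ g₁).2 z) • e + M.j (ρ' (M.Φ g₁).2 z) := by
      rw [zero_smul, zero_add, add_comm]; exact h
    obtain ⟨h1, h2⟩ := M.coord_inj h'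
    rw [← h2] at h1
    exact ⟨h2.symm, h1.symm⟩
  have hΦ : (M.Φ g₁).2 = 1 := hinj' (LinearMap.ext fun z => by simp [(hone z).1])
  rw [pairCount_one, tupCount, ← Nat.card_fin k, ← Nat.card_fun, ← Nat.card_prod, stabCount,
    Nat.card_fin]
  symm
  refine Nat.card_eq_of_bijective (fun s => ⟨((1 : G), fun i => s.1 i • e + M.j (s.2.1 i)), rfl,
    (M.isTup_iff he g₁ s.1 s.2.1).2 ⟨by rw [hΦ]; exact s.2.2, fun i => (hone _).2⟩⟩) ⟨?_, ?_⟩
  · rintro ⟨a, z, hz⟩ ⟨a', z', hz'⟩ E
    have E2 := congrArg (fun t => t.1.2) E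
    simp only at E2
    have E4 := fun i => M.coord_inj (congrFun E2 i)
    obtain rfl : z = z' := funext fun i => (E4 i).2
    obtain rfl : a = a' := funext fun i => (E4 i).1
    rfl
  · rintro ⟨⟨g, y⟩, hg, hy⟩
    obtain rfl : g = 1 := hg
    have hperp : ∀ i, B e (y i) = 0 := fun i => by simpa using hy.2.2 0 i.succ
    choose a z hyz using fun i => M.exists_coord (y i) (hperp i)
    have hy' : IsTup B (fixed ρ g₁.1)
        (Fin.cons e (fun i => a i • e + M.j (z i)) : Fin (k + 1) → V) := by
      simpa only [← hyz] using hy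
    have hz' := ((M.isTup_iff he g₁ a z).1 hy').1
    rw [hΦ] at hz'
    exact ⟨(a, ⟨z, hz'⟩), Subtype.ext (Prod.ext rfl (funext fun i => (hyz i).symm))⟩

/-! ### The general linear group -/

section LinearGroup

variable (F : Type*) [Field F] (n : ℕ)

/-- The natural action. -/
noncomputable def glRep : GL (Fin n) F →* Module.End F (Fin n → F) :=
  (Matrix.toLinAlgEquiv' : Matrix (Fin n) (Fin n) F ≃ₐ[F] Module.End F (Fin n → F)).toMonoidHom.comp
    (Units.coeHom _)

variable {F n}

theorem glRep_apply (g : GL (Fin n) F) (v : Fin n → F) :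
    glRep F n g v = (g : Matrix (Fin n) (Fin n) F) *ᵥ v := by
  simp [glRep]

theorem glRep_injective : Function.Injective (glRep F n) := by
  intro g h e
  refine Units.ext (Matrix.toLinAlgEquiv'.injective ?_)
  exact e

/-- The matrix with first column `e`, first row `r` and corner `A`. -/
def border (r : Fin n → F) (A : Matrix (Fin n) (Fin n) F) : Matrix (Fin (n + 1)) (Fin (n + 1)) F :=
  fun i l => Fin.cases (Fin.cases 1 r l) (fun i' => Fin.cases 0 (A i') l) i

theorem det_border (r : Fin n → F) (A : Matrix (Fin n) (Fin n) F) :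
    (border r A).det = A.det := by
  rw [det_succ_column_zero, Fin.sum_univ_succ]
  simp [border]
  rfl

theorem gl_col_zero {g : GL (Fin (n + 1)) F} (h : glRep F (n + 1) g (Pi.single 0 1) = Pi.single 0 1)
    (i : Fin (n + 1)) : (g : Matrix (Fin (n + 1)) (Fin (n + 1)) F) i 0 = if i = 0 then 1 else 0 := by
  have := congrFun h i
  rwa [glRep_apply, Matrix.mulVec_single, Pi.single_apply, MulOpposite.op_one, one_smul] at this

theorem gl_eq_border {g : GL (Fin (n + 1)) F}
    (h : glRep F (n + 1) g (Pi.single 0 1) = Pi.single 0 1) :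
    (g : Matrix (Fin (n + 1)) (Fin (n + 1)) F) =
      border (fun l => (g : Matrix (Fin (n + 1)) (Fin (n + 1)) F) 0 l.succ)
        ((g : Matrix (Fin (n + 1)) (Fin (n + 1)) F).submatrix Fin.succ Fin.succ) := by
  ext i l
  refine Fin.cases ?_ (fun i' => ?_) i <;> refine Fin.cases ?_ (fun l' => ?_) l <;>
    simp [border, gl_col_zero h]

theorem vecMul_inv_cancel (r : Fin n → F) (h : GL (Fin n) F) :
    (r ᵥ* ((h⁻¹ : GL (Fin n) F) : Matrix (Fin n) (Fin n) F)) ᵥ* (h : Matrix (Fin n) (Fin n) F) =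
      r := by
  rw [Matrix.vecMul_vecMul, ← Matrix.GeneralLinearGroup.coe_mul, inv_mul_cancel,
    Matrix.GeneralLinearGroup.coe_one, Matrix.vecMul_one]

/-- The corner of an element fixing the first basis vector. -/
noncomputable def glCorner
    (g : {g : GL (Fin (n + 1)) F // glRep F (n + 1) g (Pi.single 0 1) = Pi.single 0 1}) :
    GL (Fin n) F :=
  Matrix.GeneralLinearGroup.mkOfDetNeZero
    ((g.1 : Matrix (Fin (n + 1)) (Fin (n + 1)) F).submatrix Fin.succ Fin.succ) (by
      have hd := (Matrix.GeneralLinearGroup.det g.1).ne_zero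
      rw [Matrix.GeneralLinearGroup.val_det_apply, gl_eq_border g.2, det_border] at hd
      exact hd)

/-- The element with prescribed corner and first row. -/
noncomputable def glBuild (p : (Fin n → F) × GL (Fin n) F) :
    {g : GL (Fin (n + 1)) F // glRep F (n + 1) g (Pi.single 0 1) = Pi.single 0 1} :=
  ⟨Matrix.GeneralLinearGroup.mkOfDetNeZero
      (border (p.1 ᵥ* (p.2 : Matrix (Fin n) (Fin n) F)) (p.2 : Matrix (Fin n) (Fin n) F)) (by
        rw [det_border]
        exact (Matrix.GeneralLinearGroup.det p.2).ne_zero), by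
    funext i
    rw [glRep_apply, Matrix.mulVec_single, MulOpposite.op_one, one_smul, Pi.single_apply]
    refine Fin.cases ?_ (fun i' => ?_) i <;> simp [border]⟩

/-- Coordinates of the stabilizer of the first basis vector. -/
noncomputable def glStab :
    {g : GL (Fin (n + 1)) F // glRep F (n + 1) g (Pi.single 0 1) = Pi.single 0 1} ≃
      (Fin n → F) × GL (Fin n) F where
  toFun g := ((fun l => (g.1 : Matrix (Fin (n + 1)) (Fin (n + 1)) F) 0 l.succ) ᵥ*
      (((glCorner g)⁻¹ : GL (Fin n) F) : Matrix (Fin n) (Fin n) F), glCorner g)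
  invFun := glBuild
  left_inv g := by
    refine Subtype.ext (Units.ext ?_)
    show border (((fun l => (g.1 : Matrix (Fin (n + 1)) (Fin (n + 1)) F) 0 l.succ) ᵥ*
      (((glCorner g)⁻¹ : GL (Fin n) F) : Matrix (Fin n) (Fin n) F)) ᵥ*
        (glCorner g : Matrix (Fin n) (Fin n) F)) _ = _
    rw [vecMul_inv_cancel]
    exact (gl_eq_border g.2).symm
  right_inv p := by
    obtain ⟨w, h⟩ := p
    have e : glCorner (glBuild (w, h)) = h := Units.ext rfl
    refine Prod.ext ?_ e
    show (fun l => ((glBuild (w, h)).1 : Matrix (Fin (n + 1)) (Fin (n + 1)) F) 0 l.succ) ᵥ*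
      (((glCorner (glBuild (w, h)))⁻¹ : GL (Fin n) F) : Matrix (Fin n) (Fin n) F) = w
    rw [e]
    show (w ᵥ* (h : Matrix (Fin n) (Fin n) F)) ᵥ*
      ((h⁻¹ : GL (Fin n) F) : Matrix (Fin n) (Fin n) F) = w
    rw [Matrix.vecMul_vecMul, ← Matrix.GeneralLinearGroup.coe_mul, mul_inv_cancel,
      Matrix.GeneralLinearGroup.coe_one, Matrix.vecMul_one]

/-- Prepend a zero coordinate. -/
def consZero : (Fin n → F) →ₗ[F] (Fin (n + 1) → F) where
  toFun z := Fin.cons 0 z
  map_add' a b := by funext i; refine Fin.cases ?_ (fun i' => ?_) i <;> simp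
  map_smul' c a := by funext i; refine Fin.cases ?_ (fun i' => ?_) i <;> simp

/-- The model for the general linear group. -/
noncomputable def glModel :
    Model (W := Fin n → F) (0 : (Fin (n + 1) → F) →ₗ[F] (Fin (n + 1) → F) →ₗ[F] F)
      (0 : (Fin n → F) →ₗ[F] (Fin n → F) →ₗ[F] F) (glRep F (n + 1)) (glRep F n)
      (Pi.single 0 1) where
  j := consZero
  C := dotProductBilin F F
  Φ := glStab
  perp_left _ _ := rfl
  perp_right _ _ := rfl
  exists_coord y _ := ⟨y 0, Fin.tail y, by
    funext i; refine Fin.cases ?_ (fun i' => ?_) i <;> simp [consZero, Fin.tail]⟩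
  coord_eq_zero a z h := by
    refine ⟨by simpa [consZero] using congrFun h 0, funext fun l => ?_⟩
    simpa [consZero] using congrFun h l.succ
  form _ _ _ _ := rfl
  inv _ _ _ := rfl
  nondeg z hz φ := by
    obtain ⟨l, hl⟩ := Function.ne_iff.1 hz
    exact ⟨Pi.single l (φ / z l), by simp [div_mul_cancel₀ _ hl]⟩
  act g z := by
    funext i
    rw [glRep_apply, glRep_apply, gl_eq_border g.2]
    refine Fin.cases ?_ (fun i' => ?_) i
    · simp only [glStab, Equiv.coe_fn_mk, Pi.add_apply, Pi.smul_apply, smul_eq_mul,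
        dotProductBilin_apply_apply, consZero, LinearMap.coe_mk, AddHom.coe_mk, Fin.cons_zero,
        Pi.single_eq_same, mul_one, zero_add]
      rw [Matrix.dotProduct_mulVec, vecMul_inv_cancel]
      simp [border, Matrix.mulVec, dotProduct, Fin.sum_univ_succ]
    · simp [glStab, glCorner, border, consZero, Matrix.mulVec, dotProduct, Fin.sum_univ_succ]

theorem glRep_trans (v : Fin (n + 1) → F) (hv : v ≠ 0) :
    ∃ h : GL (Fin (n + 1)) F, glRep F (n + 1) h (Pi.single 0 1) = v := by
  classical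
  obtain ⟨i, hi⟩ := Function.ne_iff.1 hv
  set σ := Equiv.swap (0 : Fin (n + 1)) i with hσ
  set M := ((1 : Matrix (Fin (n + 1)) (Fin (n + 1)) F).updateCol i v).submatrix id σ with hM
  have hd : M.det ≠ 0 := by
    rw [hM, det_permute', ← cramer_apply, cramer_one]
    simp only [Module.End.one_apply]
    refine mul_ne_zero ?_ hi
    rcases Int.units_eq_one_or (Equiv.Perm.sign σ) with h | h <;> simp [h]
  refine ⟨Matrix.GeneralLinearGroup.mkOfDetNeZero M hd, ?_⟩
  rw [glRep_apply, Matrix.mulVec_single, MulOpposite.op_one, one_smul]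
  funext l
  simp [hM, hσ]

end LinearGroup

end CfsgLib.UnipotentCount
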