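/-
The model for the symplectic group.
-/
import Mathlib
import Cfsg.Agent.Lib.UnipotentCount.Models
import Cfsg.Agent.Lib.Classical.SpBasic
import Cfsg.Agent.Lib.Classical.SpOrder

set_option autoImplicit false
set_option linter.unusedSectionVars false

namespace CfsgLib.UnipotentCount

open Matrix Cfsg CfsgLib.Classical

variable (F : Type*) [Field F] (m : ℕ)

/-- The natural action. -/
noncomputable def spRep : symplecticGroup (Fin m) F →* Module.End F (Fin m ⊕ Fin m → F) :=
  (Matrix.toLinAlgEquiv' :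
      Matrix (Fin m ⊕ Fin m) (Fin m ⊕ Fin m) F ≃ₐ[F] Module.End F (Fin m ⊕ Fin m → F)).toMonoidHom.comp
    (symplecticGroup (Fin m) F).subtype

variable {F m}

theorem spRep_apply (g : symplecticGroup (Fin m) F) (v : Fin m ⊕ Fin m → F) :
    spRep F m g v = g.1 *ᵥ v := by
  simp [spRep]

theorem spRep_injective : Function.Injective (spRep F m) := by
  intro g h e
  exact Subtype.ext (Matrix.toLinAlgEquiv'.injective e)

/-- The distinguished first vector. -/
def eVec : Fin (m + 1) ⊕ Fin (m + 1) → F := Pi.single (Sum.inl 0) 1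

/-- Its partner. -/
def fVec : Fin (m + 1) ⊕ Fin (m + 1) → F := Pi.single (Sum.inr 0) 1

theorem spJoin_inl (y : Fin m ⊕ Fin m → F) : spJoin m F y (Sum.inl 0) = 0 := rfl

theorem spJoin_inr (y : Fin m ⊕ Fin m → F) : spJoin m F y (Sum.inr 0) = 0 := rfl

theorem tail_eVec : spTail m F eVec = 0 := by
  funext i
  rcases i with i | i <;>
    simp [eVec, spTail, LinearMap.funLeft, Fin.succ_ne_zero]

theorem tail_fVec : spTail m F fVec = 0 := by
  funext i
  rcases i with i | i <;>
    simp [fVec, spTail, LinearMap.funLeft, Fin.succ_ne_zero]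

theorem sp_decomp (x : Fin (m + 1) ⊕ Fin (m + 1) → F) :
    x = x (Sum.inl 0) • eVec + x (Sum.inr 0) • fVec + spJoin m F (spTail m F x) := by
  conv_lhs => rw [← spHead_add_join x, spHead_eq]
  rfl

theorem sympForm_eVec (y : Fin (m + 1) ⊕ Fin (m + 1) → F) :
    sympForm (m + 1) F eVec y = - y (Sum.inr 0) := by
  rw [sympForm_succ, tail_eVec]
  simp [eVec, sympForm]

theorem sympForm_fVec (y : Fin (m + 1) ⊕ Fin (m + 1) → F) :
    sympForm (m + 1) F fVec y = y (Sum.inl 0) := by
  rw [sympForm_succ, tail_fVec]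
  simp [fVec, sympForm]

/-- An element fixing `eVec`. -/
abbrev SpStab (F : Type*) [Field F] (m : ℕ) : Type _ :=
  {g : symplecticGroup (Fin (m + 1)) F // spRep F (m + 1) g eVec = eVec}

theorem stab_inr (g : SpStab F m) (x : Fin (m + 1) ⊕ Fin (m + 1) → F) :
    (g.1.1 *ᵥ x) (Sum.inr 0) = x (Sum.inr 0) := by
  have h := sp_form g.1 eVec x
  have he : g.1.1 *ᵥ eVec = eVec := by rw [← spRep_apply]; exact g.2
  rw [he, sympForm_eVec, sympForm_eVec, neg_inj] at h
  exact h

theorem stab_join (g : SpStab F m) (z : Fin m ⊕ Fin m → F) :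
    g.1.1 *ᵥ spJoin m F z =
      (sympForm m F (spTail m F (g.1.1 *ᵥ spJoin m F z)) (spTail m F (g.1.1 *ᵥ fVec))) • eVec +
        spJoin m F (spTail m F (g.1.1 *ᵥ spJoin m F z)) := by
  have h0 : (g.1.1 *ᵥ spJoin m F z) (Sum.inr 0) = 0 := by rw [stab_inr, spJoin_inr]
  have h1 : (g.1.1 *ᵥ fVec) (Sum.inr 0) = 1 := by rw [stab_inr]; simp [fVec]
  have h := sp_form g.1 (spJoin m F z) fVec
  rw [sympForm_succ, sympForm_swap (fVec (F := F) (m := m)), sympForm_fVec, h0, h1, spJoin_inl,
    neg_zero, zero_mul, mul_one, zero_sub, neg_add_eq_zero] at h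
  conv_lhs => rw [sp_decomp (g.1.1 *ᵥ spJoin m F z), h0, zero_smul, add_zero, h]

/-- The induced element. -/
noncomputable def spCorner (g : SpStab F m) : symplecticGroup (Fin m) F :=
  ⟨LinearMap.toMatrix' (spTail m F ∘ₗ g.1.1.mulVecLin ∘ₗ spJoin m F), by
    rw [mem_sp_iff]
    intro u v
    simp only [LinearMap.toMatrix'_mulVec, LinearMap.comp_apply, mulVecLin_apply]
    have h := sp_form g.1 (spJoin m F u) (spJoin m F v)
    rw [sympForm_succ, sympForm_succ, stab_inr, stab_inr, spTail_join, spTail_join, spJoin_inr,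
      spJoin_inr, zero_mul, mul_zero, zero_mul, mul_zero, sub_zero, zero_add, zero_add] at h
    exact h⟩

theorem spCorner_apply (g : SpStab F m) (z : Fin m ⊕ Fin m → F) :
    (spCorner g).1 *ᵥ z = spTail m F (g.1.1 *ᵥ spJoin m F z) := by
  simp [spCorner, LinearMap.toMatrix'_mulVec]

/-- The linear map with prescribed coordinates. -/
noncomputable def spLin (a : F) (w : Fin m ⊕ Fin m → F) (h : symplecticGroup (Fin m) F) :
    (Fin (m + 1) ⊕ Fin (m + 1) → F) →ₗ[F] (Fin (m + 1) ⊕ Fin (m + 1) → F) :=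
  (LinearMap.proj (Sum.inl 0) : (Fin (m + 1) ⊕ Fin (m + 1) → F) →ₗ[F] F).smulRight eVec +
    (LinearMap.proj (Sum.inr 0) : (Fin (m + 1) ⊕ Fin (m + 1) → F) →ₗ[F] F).smulRight
      (fVec + a • eVec + spJoin m F w) +
    (((spBilin m F).flip w) ∘ₗ h.1.mulVecLin ∘ₗ spTail m F).smulRight eVec +
    spJoin m F ∘ₗ h.1.mulVecLin ∘ₗ spTail m F

theorem spBilin_eq (u v : Fin m ⊕ Fin m → F) : spBilin m F u v = sympForm m F u v := rfl

theorem spLin_apply (a : F) (w : Fin m ⊕ Fin m → F) (h : symplecticGroup (Fin m) F)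
    (x : Fin (m + 1) ⊕ Fin (m + 1) → F) :
    spLin a w h x = x (Sum.inl 0) • eVec + x (Sum.inr 0) • (fVec + a • eVec + spJoin m F w) +
      sympForm m F (h.1 *ᵥ spTail m F x) w • eVec + spJoin m F (h.1 *ᵥ spTail m F x) := by
  simp [spLin, spBilin_eq]

/-- The element with prescribed coordinates. -/
noncomputable def spBuild (p : (F × (Fin m ⊕ Fin m → F)) × symplecticGroup (Fin m) F) :
    SpStab F m :=
  ⟨⟨LinearMap.toMatrix' (spLin p.1.1 p.1.2 p.2), by
    obtain ⟨⟨a, w⟩, h⟩ := p
    rw [mem_sp_iff]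
    intro u v
    simp only [LinearMap.toMatrix'_mulVec, spLin_apply]
    rw [sympForm_succ, sympForm_succ u v]
    simp only [map_add, map_smul, tail_eVec, tail_fVec, spTail_join, smul_zero, zero_add, add_zero,
      Pi.add_apply, Pi.smul_apply, smul_eq_mul, spJoin_inl, spJoin_inr]
    simp only [sympForm_add_left, sympForm_add_right, sympForm_smul_left, sympForm_smul_right,
      sympForm_self, sp_form]
    rw [sympForm_swap (h.1 *ᵥ spTail m F v) w]
    simp [eVec, fVec]
    ring⟩, by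
    rw [spRep_apply, LinearMap.toMatrix'_mulVec, spLin_apply, tail_eVec]
    simp [eVec, sympForm]⟩

theorem spBuild_apply (p : (F × (Fin m ⊕ Fin m → F)) × symplecticGroup (Fin m) F)
    (x : Fin (m + 1) ⊕ Fin (m + 1) → F) :
    (spBuild p).1.1 *ᵥ x = spLin p.1.1 p.1.2 p.2 x := by
  simp [spBuild, LinearMap.toMatrix'_mulVec]

/-- Coordinates of the stabilizer of `eVec`. -/
noncomputable def spStab :
    SpStab F m ≃ (F × (Fin m ⊕ Fin m → F)) × symplecticGroup (Fin m) F where
  toFun g := (((g.1.1 *ᵥ fVec) (Sum.inl 0), spTail m F (g.1.1 *ᵥ fVec)), spCorner g)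
  invFun := spBuild
  left_inv g := by
    refine Subtype.ext (sp_ext fun x => ?_)
    rw [spBuild_apply, spLin_apply, spCorner_apply]
    have he : g.1.1 *ᵥ eVec = eVec := by rw [← spRep_apply]; exact g.2
    have h1 : (g.1.1 *ᵥ fVec) (Sum.inr 0) = 1 := by rw [stab_inr]; simp [fVec]
    have hf : g.1.1 *ᵥ fVec = fVec + (g.1.1 *ᵥ fVec) (Sum.inl 0) • eVec +
        spJoin m F (spTail m F (g.1.1 *ᵥ fVec)) := by
      conv_lhs => rw [sp_decomp (g.1.1 *ᵥ fVec), h1, one_smul]
      abel
    conv_rhs => rw [sp_decomp x, mulVec_add, mulVec_add, mulVec_smul, mulVec_smul, he,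
      stab_join g (spTail m F x), hf]
    simp only [map_add, map_smul, tail_fVec, tail_eVec, spTail_join, smul_zero, zero_add]
    abel
  right_inv p := by
    obtain ⟨⟨a, w⟩, h⟩ := p
    refine Prod.ext (Prod.ext ?_ ?_) (sp_ext fun z => ?_)
    · show ((spBuild ((a, w), h)).1.1 *ᵥ fVec) (Sum.inl 0) = a
      rw [spBuild_apply, spLin_apply, tail_fVec]
      simp [eVec, fVec, spJoin_inl, sympForm]
    · show spTail m F ((spBuild ((a, w), h)).1.1 *ᵥ fVec) = w
      rw [spBuild_apply, spLin_apply, tail_fVec]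
      simp [tail_eVec, tail_fVec, spTail_join]
      simp [fVec]
    · rw [spCorner_apply, spBuild_apply, spLin_apply]
      simp [spTail_join, tail_eVec, spJoin_inr, spJoin_inl]

/-- The pairing. -/
noncomputable def spC : (F × (Fin m ⊕ Fin m → F)) →ₗ[F] (Fin m ⊕ Fin m → F) →ₗ[F] F :=
  (spBilin m F).flip ∘ₗ LinearMap.snd F F (Fin m ⊕ Fin m → F)

theorem spC_apply (w : F × (Fin m ⊕ Fin m → F)) (z : Fin m ⊕ Fin m → F) :
    spC w z = sympForm m F z w.2 := rfl

/-- The model for the symplectic group. -/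
noncomputable def spModel :
    Model (W := F × (Fin m ⊕ Fin m → F)) (spBilin (m + 1) F) (spBilin m F) (spRep F (m + 1))
      (spRep F m) eVec where
  j := spJoin m F
  C := spC
  Φ := spStab
  perp_left a z := by
    rw [spBilin_eq, sympForm_eVec]
    simp [eVec, spJoin_inr]
  perp_right a z := by
    rw [spBilin_eq, sympForm_swap eVec, sympForm_eVec]
    simp [eVec, spJoin_inr]
  exists_coord y hy := by
    rw [spBilin_eq, sympForm_eVec, neg_eq_zero] at hy
    refine ⟨y (Sum.inl 0), spTail m F y, ?_⟩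
    conv_lhs => rw [sp_decomp y, hy, zero_smul, add_zero]
  coord_eq_zero a z h := by
    have h1 := congrFun h (Sum.inl 0)
    have h2 := congrArg (spTail m F) h
    simp [eVec, spJoin_inl] at h1
    simp [tail_eVec, spTail_join] at h2
    exact ⟨h1, h2⟩
  form a b z z' := by
    rw [spBilin_eq, spBilin_eq, sympForm_succ]
    simp [eVec, spJoin_inr, spJoin_inl, spTail_join]
    simpa [eVec] using congrArg₂ (fun u v => sympForm m F u v)
      (show a • spTail m F eVec + z = z by simp [tail_eVec])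
      (show b • spTail m F eVec + z' = z' by simp [tail_eVec])
  inv g a b := by
    rw [spBilin_eq, spBilin_eq, spRep_apply, spRep_apply, sp_form]
  nondeg z hz φ := by
    obtain ⟨w, hw⟩ := exists_sympForm_ne_zero hz
    refine ⟨(0, (φ / sympForm m F z w) • w), ?_⟩
    rw [spC_apply, sympForm_smul_right, div_mul_cancel₀ _ hw]
  act g z := by
    rw [spRep_apply, spRep_apply, spC_apply]
    show g.1.1 *ᵥ spJoin m F z = spJoin m F ((spCorner g).1 *ᵥ z) +
      sympForm m F ((spCorner g).1 *ᵥ z) (spTail m F (g.1.1 *ᵥ fVec)) • eVec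
    rw [spCorner_apply]
    exact (stab_join g z).trans (add_comm _ _)

theorem spRep_trans (v : Fin (m + 1) ⊕ Fin (m + 1) → F) (hv : v ≠ 0) :
    ∃ h : symplecticGroup (Fin (m + 1)) F, spRep F (m + 1) h eVec = v := by
  obtain ⟨h, hh⟩ := exists_sp_move (v := (eVec : Fin (m + 1) ⊕ Fin (m + 1) → F)) (by
    intro h; simpa [eVec] using congrFun h (Sum.inl 0)) hv
  exact ⟨h, by rw [spRep_apply]; exact hh.2⟩

end CfsgLib.UnipotentCount
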