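/-
The number of unipotent elements of `GL_n(q)` and `Sp_{2m}(q)`.
-/
import Mathlib
import Cfsg.Agent.Lib.UnipotentCount.Symp

set_option autoImplicit false
set_option linter.unusedSectionVars false
set_option linter.style.haveILetI false

namespace CfsgLib.UnipotentCount

open Matrix Cfsg CfsgLib.Classical

section LinearCount

variable (q : ℕ)

/-- `∏ (q^(n-i) - 1)`. -/
def pGL : ℕ → ℕ → ℚ
  | _, 0 => 1
  | 0, _ + 1 => 0
  | n + 1, k + 1 => ((q : ℚ) ^ (n + 1) - 1) * pGL n k

/-- The exponent in the count of pairs. -/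
def eGL : ℕ → ℕ → ℕ
  | n, 0 => n * (n - 1)
  | 0, _ + 1 => 0
  | n + 1, k + 1 => n + eGL n k

theorem pGL_succ : ∀ n k : ℕ, pGL q n (k + 1) = ((q : ℚ) ^ (n - k) - 1) * pGL q n k
  | 0, k => by cases k <;> simp [pGL]
  | n + 1, 0 => by simp [pGL]
  | n + 1, k + 1 => by
    rw [pGL, pGL_succ n k, pGL, Nat.add_sub_add_right]
    ring

theorem pGL_eq_zero : ∀ {n k : ℕ}, n < k → pGL q n k = 0
  | 0, _ + 1, _ => rfl
  | n + 1, k + 1, h => by rw [pGL, pGL_eq_zero (by omega : n < k), mul_zero]

theorem eGL_step : ∀ {n k : ℕ}, k ≤ n → eGL (n + 1) (k + 1) + (n - k) = eGL (n + 1) k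
  | n, 0, _ => by
    simp only [eGL]
    cases n with
    | zero => rfl
    | succ n => simp only [Nat.add_sub_cancel, Nat.sub_zero]; ring
  | 0, k + 1, h => absurd h (by omega)
  | n + 1, k + 1, h => by
    have := eGL_step (n := n) (k := k) (by omega)
    simp only [eGL] at this ⊢
    omega

variable {q}

theorem sum_pGL (hq : 1 < q) (n : ℕ) :
    ∑ k ∈ Finset.range (n + 2), wt q k * pGL q (n + 1) k * (q : ℚ) ^ eGL (n + 1) k = 0 := by
  rw [telescope (fun k => wt q k * pGL q n k) (fun k => wt q k * pGL q (n + 1) k)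
    (fun k => (q : ℚ) ^ eGL (n + 1) k) (fun _ => 1) (fun k => (q : ℚ) ^ (n - k)) n
    (by cases n <;> simp [pGL]) ?_ rfl (by simp [pGL_eq_zero])]
  · refine Finset.sum_eq_zero fun k hk => ?_
    rw [← pow_add, add_comm (n - k), eGL_step (by simp at hk; omega), one_mul, sub_self, mul_zero]
  · intro k
    rw [pGL_succ q n k, show pGL q (n + 1) (k + 1) = ((q : ℚ) ^ (n + 1) - 1) * pGL q n k from rfl]
    rcases Nat.lt_or_ge n k with h | h
    · rw [pGL_eq_zero q h]; ring
    obtain ⟨d, rfl⟩ := Nat.exists_eq_add_of_le h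
    rw [Nat.add_sub_cancel_left]
    linear_combination ((q : ℚ) ^ d * pGL q (k + d) k) * wt_succ hq k

variable {F : Type*} [Field F] [Finite F] {p : ℕ} [Fact p.Prime] [CharP F p]

open _root_.Classical in
theorem glPairs (n : ℕ) : ∀ k : ℕ,
    (pairCount (PEl p) (0 : (Fin n → F) →ₗ[F] (Fin n → F) →ₗ[F] F) (glRep F n) k : ℚ) =
      pGL (Nat.card F) n k * (Nat.card F : ℚ) ^ eGL n k := by
  have hq : 1 < Nat.card F := Finite.one_lt_card
  induction n with
  | zero =>
    intro k
    cases k with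
    | zero =>
      rw [pairCount_zero]
      have : Nat.card {g : GL (Fin 0) F // PEl p g} = 1 :=
        Nat.card_eq_one_iff_unique.2 ⟨inferInstance, ⟨⟨1, 0, by simp⟩⟩⟩
      rw [this]
      simp [pGL, eGL]
    | succ k => simp [pairCount_eq_zero, pGL]
  | succ n ih =>
    have hne : (Pi.single 0 1 : Fin (n + 1) → F) ≠ 0 := fun h => by simpa using congrFun h 0
    have hs : ∀ k, (pairCount (PEl p) (0 : (Fin (n + 1) → F) →ₗ[F] (Fin (n + 1) → F) →ₗ[F] F)
        (glRep F (n + 1)) (k + 1) : ℚ) =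
          pGL (Nat.card F) (n + 1) (k + 1) * (Nat.card F : ℚ) ^ eGL (n + 1) (k + 1) := by
      intro k
      rw [pairCount_succ _ (pEl_conj p) _ _ (fun _ _ _ => rfl) glRep_trans k,
        (glModel (F := F) (n := n)).stabCount_eq hne (PEl p) (PEl p)
          (fun g => (glModel (F := F) (n := n)).pEl_iff glRep_injective glRep_injective g) k]
      simp only [Nat.card_fun, Nat.card_fin]
      push_cast [Nat.cast_sub (Nat.one_le_pow _ _ (by omega : 0 < Nat.card F))]
      rw [ih k]
      simp only [pGL, eGL]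
      ring
    intro k
    cases k with
    | succ k => exact hs k
    | zero =>
      have h1 := sum_wt_pairCount (p := p) (0 : (Fin (n + 1) → F) →ₗ[F] (Fin (n + 1) → F) →ₗ[F] F)
        (glRep F (n + 1)) glRep_injective (fun _ _ _ => rfl) (N := n + 1) (by simp)
      rw [sum_wt_tupCount (v := (Pi.single 0 1 : Fin (n + 1) → F)) (mem_fixed.2 (by simp)) hne
        (fun _ _ => ⟨rfl, rfl⟩) (by simp), Finset.sum_range_succ'] at h1
      have h2 := sum_pGL hq n
      rw [Finset.sum_range_succ'] at h2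
      simp only [hs, ← mul_assoc] at h1
      simp only [wt, pow_zero, Finset.range_zero, Finset.prod_empty, div_one, one_mul] at h1 h2
      linarith

theorem card_pEl_gl (n : ℕ) :
    Nat.card {g : GL (Fin n) F // ∃ k : ℕ, orderOf g = p ^ k} = Nat.card F ^ (n * (n - 1)) := by
  have h := glPairs (F := F) (p := p) n 0
  rw [pairCount_zero] at h
  have h' : pGL (Nat.card F) n 0 = 1 ∧ eGL n 0 = n * (n - 1) := by cases n <;> simp [pGL, eGL]
  rw [h'.1, h'.2, one_mul] at h
  have h2 : Nat.card {g : GL (Fin n) F // PEl p g} = Nat.card F ^ (n * (n - 1)) := by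
    exact_mod_cast h
  rw [← h2]
  refine Nat.card_congr (Equiv.subtypeEquivRight fun g => ?_)
  exact ⟨fun ⟨k, hk⟩ => ⟨k, hk ▸ pow_orderOf_eq_one g⟩, fun ⟨k, hk⟩ =>
    let ⟨j, _, hj⟩ := (Nat.dvd_prime_pow Fact.out).1 (orderOf_dvd_of_pow_eq_one hk); ⟨j, hj⟩⟩

end LinearCount

section SympCount

variable (q : ℕ)

/-- `∏ (q^(2(m-i)) - 1)`. -/
def pSp : ℕ → ℕ → ℚ
  | _, 0 => 1
  | 0, _ + 1 => 0
  | m + 1, k + 1 => ((q : ℚ) ^ (2 * (m + 1)) - 1) * pSp m k

theorem pSp_succ : ∀ m k : ℕ, pSp q m (k + 1) = ((q : ℚ) ^ (2 * (m - k)) - 1) * pSp q m k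
  | 0, k => by cases k <;> simp [pSp]
  | m + 1, 0 => by simp [pSp]
  | m + 1, k + 1 => by
    rw [pSp, pSp_succ m k, pSp, Nat.add_sub_add_right]
    ring

theorem pSp_eq_zero : ∀ {m k : ℕ}, m < k → pSp q m k = 0
  | 0, _ + 1, _ => rfl
  | m + 1, k + 1, h => by rw [pSp, pSp_eq_zero (by omega : m < k), mul_zero]

variable {q}

theorem pascal_sp (hq : 1 < q) (m k : ℕ) :
    wt q (k + 1) * pSp q (m + 1) (k + 1) =
      (q : ℚ) ^ (k + 1) * (wt q (k + 1) * pSp q m (k + 1)) -
        (1 + (q : ℚ) ^ (2 * m + 1 - k)) * (wt q k * pSp q m k) := by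
  rw [pSp_succ q m k, show pSp q (m + 1) (k + 1) = ((q : ℚ) ^ (2 * (m + 1)) - 1) * pSp q m k from rfl]
  rcases Nat.lt_or_ge m k with h | h
  · rw [pSp_eq_zero q h]; ring
  obtain ⟨d, rfl⟩ := Nat.exists_eq_add_of_le h
  rw [Nat.add_sub_cancel_left, show 2 * (k + d) + 1 - k = k + 1 + 2 * d by omega]
  linear_combination ((1 + (q : ℚ) ^ (k + 1 + 2 * d)) * pSp q (k + d) k) * wt_succ hq k

theorem sum_pSp_choose (hq : 1 < q) : ∀ m N : ℕ, m ≤ N →
    ∑ k ∈ Finset.range (N + 1), wt q k * pSp q m k * (q : ℚ) ^ Nat.choose k 2 =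
      (-1) ^ m * (q : ℚ) ^ (m ^ 2)
  | 0, N, _ => by
    rw [Finset.sum_eq_single 0]
    · simp [wt, pSp]
    · intro k _ hk; rw [pSp_eq_zero q (by omega : 0 < k)]; simp
    · simp
  | m + 1, N + 1, h => by
    rw [telescope (fun k => wt q k * pSp q m k) (fun k => wt q k * pSp q (m + 1) k)
      (fun k => (q : ℚ) ^ Nat.choose k 2) (fun k => (q : ℚ) ^ k)
      (fun k => 1 + (q : ℚ) ^ (2 * m + 1 - k)) N (by cases m <;> simp [pSp])
      (pascal_sp hq m) (pow_zero _) (by simp [pSp_eq_zero q (by omega : m < N + 1)])]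
    have ih := sum_pSp_choose hq m N (by omega)
    calc _ = ∑ k ∈ Finset.range (N + 1),
          (-(q : ℚ) ^ (2 * m + 1)) * (wt q k * pSp q m k * (q : ℚ) ^ Nat.choose k 2) := by
            refine Finset.sum_congr rfl fun k _ => ?_
            rcases Nat.lt_or_ge m k with hk | hk
            · simp [pSp_eq_zero q hk]
            obtain ⟨d, hd⟩ := Nat.exists_eq_add_of_le hk
            subst hd
            rw [show Nat.choose (k + 1) 2 = k + Nat.choose k 2 by
              rw [Nat.choose_succ_succ', Nat.choose_one_right], show 2 * (k + d) + 1 - k = k + (2 * d + 1) by omega]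
            ring
      _ = _ := by rw [← Finset.mul_sum, ih]; ring

theorem sum_pSp_sq (hq : 1 < q) : ∀ m N : ℕ, m ≤ N →
    ∑ k ∈ Finset.range (N + 1), wt q k * pSp q m k * (q : ℚ) ^ ((m - k) ^ 2) = (-1) ^ m
  | 0, N, _ => by
    rw [Finset.sum_eq_single 0]
    · simp [wt, pSp]
    · intro k _ hk; rw [pSp_eq_zero q (by omega : 0 < k)]; simp
    · simp
  | m + 1, N + 1, h => by
    rw [telescope (fun k => wt q k * pSp q m k) (fun k => wt q k * pSp q (m + 1) k)
      (fun k => (q : ℚ) ^ ((m + 1 - k) ^ 2)) (fun k => (q : ℚ) ^ k)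
      (fun k => 1 + (q : ℚ) ^ (2 * m + 1 - k)) N (by cases m <;> simp [pSp])
      (pascal_sp hq m) (pow_zero _) (by simp [pSp_eq_zero q (by omega : m < N + 1)])]
    have ih := sum_pSp_sq hq m N (by omega)
    calc _ = ∑ k ∈ Finset.range (N + 1),
          (-1 : ℚ) * (wt q k * pSp q m k * (q : ℚ) ^ ((m - k) ^ 2)) := by
            refine Finset.sum_congr rfl fun k _ => ?_
            rcases Nat.lt_or_ge m k with hk | hk
            · simp [pSp_eq_zero q hk]
            obtain ⟨d, hd⟩ := Nat.exists_eq_add_of_le hk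
            subst hd
            rw [show k + d + 1 - k = d + 1 by omega, show k + d + 1 - (k + 1) = d by omega,
              show k + d - k = d by omega, show 2 * (k + d) + 1 - k = k + 2 * d + 1 by omega]
            ring
      _ = _ := by rw [← Finset.mul_sum, ih]; ring

variable {F : Type*} [Field F] [Finite F] {p : ℕ} [Fact p.Prime] [CharP F p]

open _root_.Classical in
theorem spTuples (m : ℕ) : ∀ k : ℕ,
    (pairCount (fun g => g = 1) (spBilin m F) (spRep F m) k : ℚ) =
      pSp (Nat.card F) m k * (Nat.card F : ℚ) ^ Nat.choose k 2 := by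
  have hq : 1 < Nat.card F := Finite.one_lt_card
  induction m with
  | zero =>
    intro k
    cases k with
    | zero => simp [pairCount_zero, pSp]
    | succ k => simp [pairCount_eq_zero, pSp]
  | succ m ih =>
    intro k
    cases k with
    | zero => simp [pairCount_zero, pSp]
    | succ k =>
      have hne : (eVec : Fin (m + 1) ⊕ Fin (m + 1) → F) ≠ 0 := fun h => by
        simpa [eVec] using congrFun h (Sum.inl 0)
      rw [pairCount_succ _ (fun c g h => by rw [h]; group) _ _ (spModel (F := F) (m := m)).inv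
        spRep_trans k, (spModel (F := F) (m := m)).stabCount_one hne spRep_injective k]
      simp only [Nat.card_fun, Nat.card_sum, Nat.card_fin]
      push_cast [Nat.cast_sub (Nat.one_le_pow _ _ (by omega : 0 < Nat.card F))]
      rw [ih k, show Nat.choose (k + 1) 2 = k + Nat.choose k 2 by
        rw [Nat.choose_succ_succ', Nat.choose_one_right]]
      simp only [pSp]
      ring

open _root_.Classical in
theorem spPairs (m : ℕ) : ∀ k : ℕ,
    (pairCount (PEl p) (spBilin m F) (spRep F m) k : ℚ) =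
      pSp (Nat.card F) m k * (Nat.card F : ℚ) ^ (m ^ 2 + (m - k) ^ 2) := by
  have hq : 1 < Nat.card F := Finite.one_lt_card
  induction m with
  | zero =>
    intro k
    cases k with
    | zero =>
      rw [pairCount_zero]
      have : Nat.card {g : symplecticGroup (Fin 0) F // PEl p g} = 1 :=
        Nat.card_eq_one_iff_unique.2 ⟨inferInstance, ⟨⟨1, 0, by simp⟩⟩⟩
      rw [this]
      simp [pSp]
    | succ k => simp [pairCount_eq_zero, pSp]
  | succ m ih =>
    have hne : (eVec : Fin (m + 1) ⊕ Fin (m + 1) → F) ≠ 0 := fun h => by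
      simpa [eVec] using congrFun h (Sum.inl 0)
    have hs : ∀ k, (pairCount (PEl p) (spBilin (m + 1) F) (spRep F (m + 1)) (k + 1) : ℚ) =
        pSp (Nat.card F) (m + 1) (k + 1) *
          (Nat.card F : ℚ) ^ ((m + 1) ^ 2 + (m + 1 - (k + 1)) ^ 2) := by
      intro k
      rw [pairCount_succ _ (pEl_conj p) _ _ (spModel (F := F) (m := m)).inv spRep_trans k,
        (spModel (F := F) (m := m)).stabCount_eq hne (PEl p) (PEl p)
          (fun g => (spModel (F := F) (m := m)).pEl_iff spRep_injective spRep_injective g) k]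
      simp only [Nat.card_prod, Nat.card_fun, Nat.card_sum, Nat.card_fin]
      push_cast [Nat.cast_sub (Nat.one_le_pow _ _ (by omega : 0 < Nat.card F))]
      rw [ih k]
      simp only [pSp]
      ring
    intro k
    cases k with
    | succ k => exact hs k
    | zero =>
      have h1 := sum_wt_pairCount (p := p) (spBilin (m + 1) F) (spRep F (m + 1)) spRep_injective
        (spModel (F := F) (m := m)).inv (N := 2 * (m + 1)) (by simp [two_mul])
      have h2 : ∀ k, (tupCount (spBilin (m + 1) F) (fixed (spRep F (m + 1)) 1) k : ℚ) =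
          pSp (Nat.card F) (m + 1) k * (Nat.card F : ℚ) ^ Nat.choose k 2 := fun k => by
        rw [← pairCount_one, spTuples]
      simp only [h2, ← mul_assoc] at h1
      rw [sum_pSp_choose hq (m + 1) _ (by omega), Finset.sum_range_succ'] at h1
      have h3 := sum_pSp_sq hq (m + 1) (2 * (m + 1)) (by omega)
      rw [Finset.sum_range_succ'] at h3
      simp only [hs] at h1
      simp only [wt, pow_zero, Finset.range_zero, Finset.prod_empty, div_one, one_mul] at h1 h3
      have h4 : pSp (Nat.card F) (m + 1) 0 = 1 := rfl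
      rw [h4, Nat.sub_zero, one_mul] at h3
      rw [h4, Nat.sub_zero, one_mul, pow_add]
      have h5 : ∀ k, wt (Nat.card F) (k + 1) * (pSp (Nat.card F) (m + 1) (k + 1) *
          (Nat.card F : ℚ) ^ ((m + 1) ^ 2 + (m + 1 - (k + 1)) ^ 2)) =
          (Nat.card F : ℚ) ^ ((m + 1) ^ 2) * (wt (Nat.card F) (k + 1) *
            pSp (Nat.card F) (m + 1) (k + 1) *
              (Nat.card F : ℚ) ^ ((m + 1 - (k + 1)) ^ 2)) := fun k => by rw [pow_add]; ring
      simp only [wt] at h5
      simp only [mul_assoc, h5] at h1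
      simp only [mul_assoc] at h3
      rw [← Finset.mul_sum] at h1
      linear_combination h1 - (Nat.card F : ℚ) ^ ((m + 1) ^ 2) * h3

theorem card_pEl_sp (m : ℕ) :
    Nat.card {g : symplecticGroup (Fin m) F // ∃ k : ℕ, orderOf g = p ^ k} =
      Nat.card F ^ (2 * m ^ 2) := by
  have h := spPairs (F := F) (p := p) m 0
  rw [pairCount_zero] at h
  have h' : pSp (Nat.card F) m 0 = 1 := by cases m <;> rfl
  rw [h', one_mul, Nat.sub_zero, ← two_mul] at h
  have h2 : Nat.card {g : symplecticGroup (Fin m) F // PEl p g} = Nat.card F ^ (2 * m ^ 2) := by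
    exact_mod_cast h
  rw [← h2]
  refine Nat.card_congr (Equiv.subtypeEquivRight fun g => ?_)
  exact ⟨fun ⟨k, hk⟩ => ⟨k, hk ▸ pow_orderOf_eq_one g⟩, fun ⟨k, hk⟩ =>
    let ⟨j, _, hj⟩ := (Nat.dvd_prime_pow Fact.out).1 (orderOf_dvd_of_pow_eq_one hk); ⟨j, hj⟩⟩

end SympCount

end CfsgLib.UnipotentCount
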